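import Cfsg.Agent.H706.PB.Defs
import Cfsg.Agent.Nodes.LeviDec

/-!
# S4884, classical groups in cross characteristic: the interface (helper439)

`Θ = ∑_K co(K) 1_{P_K}^S`, the sum over the sets `K` of dimensions refining the binary digits of `N`.

* `mu P χ`        : the multiplicity `⟨χ, 1_P^G⟩`;
* `pf P g`        : the number of fixed points of `g` on `G ⧸ P`;
* `dig N`         : the binary digits of `N` (powers of two, increasing, distinct, with sum `N`);
* `coL ds K`      : the coefficient of the set `K ⊆ [1, N]` of relative dimensions (`N ∈ K`);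
* `fl rk A K`     : the number of chains above `A` with the set `K` of relative ranks;
* `TT rk ds A`    : `∑_K coL ds K * fl rk A K`;
* `StP Adm X`     : the poset of the `X`-stable admissible subspaces, `rkS` the dimension;
* `Prim x A B`    : `x` is primary on `B / A`;
* `PF Adm X ds A` : there is a flag above `A` of `X`-stable admissible subspaces with relative dimensions `ds`, all
  quotients primary for all `x ∈ X`.
-/

set_option autoImplicit false

namespace Cfsg.Agent.H439.CC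

open Cfsg Cfsg.Agent.Characters.Core Cfsg.Agent.H706.PB Cfsg.Agent.Nodes.BNOf Cfsg.Agent.Nodes.LeviDec
open Cfsg.Agent.ChevalleyStructure.CoxeterGeom Cfsg.Agent.Tits.Roots

universe u v

/-! ### Multiplicities and fixed points -/

/-- `⟨χ, 1_P^G⟩` -/
noncomputable def mu {G : Type*} [Group G] (P : Subgroup G) (χ : G → ℂ) : ℂ :=
  (Nat.card P : ℂ)⁻¹ * ∑ᶠ x : P, χ x

/-- the number of fixed points of `g` on `G ⧸ P` -/
noncomputable def pf {G : Type*} [Group G] (P : Subgroup G) (g : G) : ℕ := Nat.card {x : G ⧸ P // g • x = x}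

/-! ### Digits and coefficients -/

/-- the binary digits of `N`: distinct powers of two with sum `N` -/
def dig (N : ℕ) : List ℕ := N.bitIndices.map fun i => 2 ^ i

/-- the coefficient of the set `K` of relative dimensions for the list `ds` of dimensions -/
def coL : List ℕ → Finset ℕ → ℤ
  | [], K => if K = ∅ then 1 else 0
  | k :: ds, K => if h : k ∈ K then
      (-1) ^ ((K.filter fun x => x < k).card) * (K.min' ⟨k, h⟩ : ℤ) * coL ds ((K.filter fun x => k < x).image fun x => x - k)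
    else 0

/-! ### Chains in a ranked poset -/

section Poset

variable {P : Type*} [PartialOrder P]

/-- the number of chains above `A` whose set of relative ranks is `K` (`rk` strictly monotone) -/
noncomputable def fl (rk : P → ℕ) (A : P) (K : Finset ℕ) : ℕ :=
  Nat.card {c : Finset P // IsChain (· ≤ ·) (c : Set P) ∧ (∀ x ∈ c, A < x) ∧ c.image (fun x => rk x - rk A) = K}

/-- the number of chains in `(A, B]` containing `B` whose set of relative ranks is `K` -/
noncomputable def flB (rk : P → ℕ) (A B : P) (K : Finset ℕ) : ℕ :=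
  Nat.card {c : Finset P // IsChain (· ≤ ·) (c : Set P) ∧ (∀ x ∈ c, A < x ∧ x ≤ B) ∧ B ∈ c ∧
    c.image (fun x => rk x - rk A) = K}

/-- `Θ` above `A` -/
noncomputable def TT (rk : P → ℕ) (ds : List ℕ) (A : P) : ℤ :=
  ∑ K ∈ (Finset.Icc 1 ds.sum).powerset, coL ds K * fl rk A K

/-- `ρ` of the interval `[A, B]` of length `k` -/
noncomputable def rho (rk : P → ℕ) (k : ℕ) (A B : P) : ℤ :=
  ∑ K ∈ (Finset.Icc 1 k).powerset, coL [k] K * flB rk A B K

end Poset

/-! ### Stable subspaces -/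

section Lin

variable {F : Type*} [Field F] {V : Type*} [AddCommGroup V] [Module F V]

/-- the `X`-stable admissible subspaces -/
def StP (Adm : Submodule F V → Prop) (X : Set (V ≃ₗ[F] V)) : Type _ :=
  {U : Submodule F V // Adm U ∧ ∀ x ∈ X, U.map (x : V →ₗ[F] V) = U}

instance (Adm : Submodule F V → Prop) (X : Set (V ≃ₗ[F] V)) : PartialOrder (StP Adm X) :=
  inferInstanceAs (PartialOrder {U : Submodule F V // Adm U ∧ ∀ x ∈ X, U.map (x : V →ₗ[F] V) = U})

/-- the dimension -/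
noncomputable def rkS (Adm : Submodule F V → Prop) (X : Set (V ≃ₗ[F] V)) (U : StP Adm X) : ℕ :=
  Module.finrank F U.1

/-- `⊥` in `StP` -/
def botS {Adm : Submodule F V → Prop} (h0 : Adm ⊥) (X : Set (V ≃ₗ[F] V)) : StP Adm X :=
  ⟨⊥, h0, fun _ _ => Submodule.map_bot _⟩

/-- `x` is primary on `B / A` -/
def Prim (x : V ≃ₗ[F] V) (A B : Submodule F V) : Prop :=
  ∀ p₁ p₂ : Polynomial F, IsCoprime p₁ p₂ →
    (∀ v ∈ B, Polynomial.aeval (x : V →ₗ[F] V) (p₁ * p₂) v ∈ A) →
    (∀ v ∈ B, Polynomial.aeval (x : V →ₗ[F] V) p₁ v ∈ A) ∨ (∀ v ∈ B, Polynomial.aeval (x : V →ₗ[F] V) p₂ v ∈ A)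

/-- there is a flag above `A` of `X`-stable admissible subspaces with relative dimensions `ds` and primary quotients -/
def PF (Adm : Submodule F V → Prop) (X : Set (V ≃ₗ[F] V)) : List ℕ → Submodule F V → Prop
  | [], _ => True
  | k :: ds, A => ∃ B : Submodule F V, A < B ∧ Adm B ∧ (∀ x ∈ X, B.map (x : V →ₗ[F] V) = B) ∧
      Module.finrank F B = Module.finrank F A + k ∧ (∀ x ∈ X, Prim x A B) ∧ PF Adm X ds B

end Lin

/-! ### The pieces -/

section Frame

variable {I W : Type*} {Y : Type u} [Fintype I] [DecidableEq I] [Group W] [Group Y] {M : CoxeterMatrix I}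
  (cs : CoxeterSystem M W) {A : I → I → ℤ} (h : IsCartan M A) (T : Subgroup Y) (X : (I → ℤ) → Subgroup Y)

/-- the parabolic subgroup `W_J` of the Weyl group -/
def WJ (J : Set I) : Subgroup W := Subgroup.closure (cs.simple '' J)

/-- **(B) comparison** with the Weyl group -/
def Cmp : Prop :=
  ∀ χ : IrrCharacter Y, mu (RGD.B cs h T X) χ ≠ 0 →
    ∃ φ : IrrCharacter W, ∀ J : Set I, mu (PJ cs h T X J) χ = mu (WJ cs J) φ

/-- **(C) parity** -/
def Par2 : Prop :=
  ∀ χ : IrrCharacter Y, mu (RGD.B cs h T X) χ ≠ 0 →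
    ∃ m : ℕ, mu (RGD.B cs h T X) χ = m ∧ (2 ∣ charDegree (χ : Y → ℂ) ↔ 2 ∣ m)

/-- **(D) the Weyl side**, `J K j` the types (`j : κ`: `κ = Unit` for the types `A`, `B`; `κ = Bool` for type `D`) -/
def WSide {κ : Type} [Fintype κ] (N : ℕ) (J : Finset ℕ → κ → Set I) : Prop :=
  ∀ φ : IrrCharacter W,
    (∑ K ∈ (Finset.Icc 1 N).powerset, ∑ j : κ, (coL (dig N) K : ℂ) * mu (WJ cs (J K j)) φ) ≠ 0 →
    ¬ 2 ∣ charDegree (φ : W → ℂ)

end Frame

/-- **(F) the flags**: `Ĝ` acts on `V`, `φ : Ĝ → S` onto with central kernel; the fixed points of `φ g` on the cosets of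
the `P K j` (`j : κ`) are the `g`-stable admissible flags with dimension set `K`. -/
structure Flags {F : Type*} [Field F] {V : Type*} [AddCommGroup V] [Module F V] (Adm : Submodule F V → Prop)
    {Gh S : Type*} [Group Gh] [Group S] (act : Gh →* (V ≃ₗ[F] V)) (φ : Gh →* S) {κ : Type} [Fintype κ] (N : ℕ)
    (P : Finset ℕ → κ → Subgroup S) : Prop where
  bot : Adm ⊥
  down : ∀ U U' : Submodule F V, U ≤ U' → Adm U' → Adm U
  stab : ∀ (g : Gh) (U : Submodule F V), Adm U → Adm (U.map (act g : V →ₗ[F] V))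
  surj : Function.Surjective φ
  ker : φ.ker ≤ Subgroup.center Gh
  fix : ∀ (g : Gh) (K : Finset ℕ), K ⊆ Finset.Icc 1 N → N ∈ K →
    ∑ j : κ, pf (P K j) (φ g) = fl (rkS Adm {act g}) (botS bot {act g}) K

/-- **(G) the `q`-elements**: a commutative `q`-subgroup `Q₀` of `Ĝ` without primary digit flags -/
def QElt {F : Type*} [Field F] {V : Type*} [AddCommGroup V] [Module F V] (Adm : Submodule F V → Prop)
    {Gh : Type*} [Group Gh] (act : Gh →* (V ≃ₗ[F] V)) (q N : ℕ) : Prop :=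
  ∃ Q₀ : Subgroup Gh, IsPGroup q Q₀ ∧ (∀ x ∈ Q₀, ∀ y ∈ Q₀, x * y = y * x) ∧
    ¬ PF Adm (act '' (Q₀ : Set Gh)) (dig N) ⊥

/-- the types of the standard flags in types `A_n` (nodes `Fin n`, `N = n + 1`) and `B_n` (`N = n`) -/
def JB {n : ℕ} (K : Finset ℕ) (_ : Unit) : Set (Fin n) := {i | (i : ℕ) + 1 ∉ K}

/-- the types of the standard flags in type `D_{n+2}` (`Nodes.TypeD`, `N = n + 2`), the two families of maximal subspaces:
`true`: `⟨b (0, true), .., b (n + 1, true)⟩`, `false`: `⟨b (0, true), .., b (n, true), b (n + 1, false)⟩` -/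
def JD {n : ℕ} (K : Finset ℕ) : Bool → Set (Fin (n + 2))
  | true => {i | (i : ℕ) + 1 ∉ K}
  | false => {i | ((Equiv.swap (Fin.last (n + 1)) (Fin.castSucc (Fin.last n)) i : Fin (n + 2)) : ℕ) + 1 ∉ K}

/-! ### The targets of the abstract pieces -/

/-- **(A) T3** (helper319) -/
def T3 : Prop :=
  ∀ (q : ℕ) [Fact q.Prime] (S : Type u) [Group S] [Finite S] (ι : Type) [Fintype ι] (a : ι → ℤ) (P : ι → Subgroup S)
    (Q : Sylow q S), q ≠ 2 → ¬ (q : ℤ) ∣ ∑ i, a i →
    (∀ χ : IrrCharacter S, ∑ i, (a i : ℂ) * mu (P i) χ ≠ 0 →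
      ¬ 2 ∣ charDegree (χ : S → ℂ) ∧ ∀ g : S, ((χ : S → ℂ) g).im = 0) →
    (∀ x : S, (∀ y ∈ (Q : Subgroup S), x * y = y * x) → ¬ q ∣ orderOf x → (q : ℤ) ∣ ∑ i, a i * (pf (P i) x : ℤ)) →
    RowReal q S

/-- **(E1)** the factorization (helper376) -/
def E1 : Prop :=
  ∀ (P : Type u) [PartialOrder P] [Finite P] (rk : P → ℕ), StrictMono rk → ∀ (k : ℕ) (ds : List ℕ) (A : P), 1 ≤ k →
    (∀ d ∈ ds, 1 ≤ d) →
    TT rk (k :: ds) A = ∑ᶠ B : {B : P // A < B ∧ rk B = rk A + k}, rho rk k A B.1 * TT rk ds B.1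

/-- **(E2)** vanishing of `ρ` for a non-primary quotient (helper376) -/
def E2 : Prop :=
  ∀ (F : Type u) [Field F] [Finite F] (V : Type v) [AddCommGroup V] [Module F V] [Module.Finite F V]
    (Adm : Submodule F V → Prop), (∀ U U' : Submodule F V, U ≤ U' → Adm U' → Adm U) →
    ∀ (X : Set (V ≃ₗ[F] V)) (x : V ≃ₗ[F] V), x ∈ X → (∀ y ∈ X, x * y = y * x) →
    ∀ (A B : StP Adm X) (k : ℕ), A < B → rkS Adm X B = rkS Adm X A + k → ¬ Prim x A.1 B.1 →
    rho (rkS Adm X) k A B = 0

end Cfsg.Agent.H439.CC
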