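import Cfsg.Agent.H439.CC.Lift
import Cfsg.Agent.H236.CC.FlMod
import Cfsg.Agent.H364.CC.E1
import Cfsg.Agent.H360.CC.ParReal
import Cfsg.Agent.H705.Dl.PsRgd

/-!
# S4884, classical groups in cross characteristic: the final assembly (helper439)

* `rowReal_of_pieces` : `RowReal q S` from the frame, `Cmp`, `WSide`, `Flags`, `QElt`.
-/

set_option autoImplicit false
set_option linter.unusedSectionVars false

namespace Cfsg.Agent.H439.CC

open Cfsg CoxeterSystem Cfsg.Agent.ChevalleyStructure.CoxeterGeom Cfsg.Agent.Tits.Roots Cfsg.Agent.Tits.Core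
  Cfsg.Agent.Tits.Exchange Cfsg.Agent.Nodes.Reps Cfsg.Agent.Nodes.BNOf Cfsg.Agent.Nodes.StabComb
  Cfsg.Agent.Nodes.LeviDec Cfsg.Agent.H706.PB Cfsg.Agent.Characters.Core

universe u v

theorem dig_sum (N : ℕ) : (dig N).sum = N := Nat.sum_map_two_pow_bitIndices N

theorem dig_ne_nil {N : ℕ} (hN : 1 ≤ N) : dig N ≠ [] := by
  intro h
  have := dig_sum N
  rw [h, List.sum_nil] at this
  omega

/-- **the final assembly**, `E2` as a hypothesis -/
theorem rowReal_of_pieces' (hE2 : E2.{u, u})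
    {I W : Type*} {Y : Type u} [Fintype I] [DecidableEq I] [Group W] [Finite W] [Group Y] [Finite Y]
    {M : CoxeterMatrix I} {cs : CoxeterSystem M W} {A : I → I → ℤ} {h : IsCartan M A} {p : ℕ} [Fact p.Prime]
    {T : Subgroup Y} {n : I → Y} {X : (I → ℤ) → Subgroup Y} (hp2 : p ≠ 2) (R : RGD cs h p T n X)
    (hgen : RGD.B cs h T X ⊔ NN cs R.nsys = ⊤) (hamb : ∀ w : W, IsConj w w⁻¹) (hcmp : Cmp cs h T X)
    {κ : Type} [Fintype κ] (N : ℕ) (hN : 1 ≤ N) (J : Finset ℕ → κ → Set I) (hW : WSide cs N J)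
    {q : ℕ} [Fact q.Prime] (hq2 : q ≠ 2) (hκ : ¬ q ∣ Fintype.card κ)
    {F V : Type u} [Field F] [Finite F] [AddCommGroup V] [Module F V] [Module.Finite F V]
    {Adm : Submodule F V → Prop} {Gh : Type u} [Group Gh] [Finite Gh] {act : Gh →* (V ≃ₗ[F] V)} {φ : Gh →* Y}
    (hF : Flags Adm act φ N (fun K j => PJ cs h T X (J K j))) (hQ : QElt Adm act q N) : RowReal q Y := by
  have : Finite V := Module.finite_of_finite F
  refine asm (N := N) lift ?_ ?_ hq2 hκ (odd_real R hgen hamb hcmp (H360.CC.par2_of_real hp2 R hgen hamb) N J hW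
    (fun _ => B_le_PJ) (H705.Dl.PsRgd.PJ_empty R)) hF hQ ?_ ?_ (dig_sum N)
  · have h1 := H675.CC.sum_coL (ds := dig N) (fun _ hd => H236.CC.one_le_of_mem_dig hd)
    rwa [dig_sum] at h1
  · intro K hK hc
    have h1 := H675.CC.mem_of_coL_ne_zero (dig_ne_nil hN) (K := K) (by rw [dig_sum]; exact Finset.mem_powerset.1 hK) hc
    rwa [dig_sum] at h1
  · intro Q₀ hQ₀ g hg K
    exact H236.CC.fl_act_modEq hF.bot act hF.stab Q₀ hQ₀ g (fun x hx => (hg x hx).symm) K
  · intro Q₀ hQc g hg hPF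
    exact H236.CC.tt_zero_bot H364.CC.e1 hE2 hF.bot hF.down act Q₀ hQc g (fun x hx => (hg x hx).symm) N hPF

end Cfsg.Agent.H439.CC
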