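import Cfsg.Agent.H439.CC.Defs

/-!
# Multiplicities of the trivial character (helper439)

* `mu_mono` : `⟨χ, 1_P⟩ ≠ 0` implies `⟨χ, 1_B⟩ ≠ 0` for `B ≤ P`;
* `mu_bot` : `⟨χ, 1_1⟩ = χ(1)`.
-/

set_option autoImplicit false

namespace Cfsg.Agent.H439.CC

open Cfsg Cfsg.Agent.Characters.Core

universe u

/-- `dim V^Q` -/
theorem finrank_inv {Q : Type*} [Group Q] [Fintype Q] {V : Type*} [AddCommGroup V] [Module ℂ V]
    [FiniteDimensional ℂ V] (τ : Representation ℂ Q V) :
    (Fintype.card Q : ℂ)⁻¹ * ∑ g : Q, LinearMap.trace ℂ V (τ g) = (Module.finrank ℂ τ.invariants : ℂ) := by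
  classical
  have hc : (Fintype.card Q : ℂ) ≠ 0 := by
    have : 0 < Fintype.card Q := Fintype.card_pos
    exact_mod_cast this.ne'
  have hinv : Invertible (Fintype.card Q : ℂ) := invertibleOfNonzero hc
  rw [← (Representation.isProj_averageMap τ).trace]
  simp [Representation.averageMap, GroupAlgebra.average, map_sum]

theorem mu_char {G : Type u} [Group G] [Finite G] {n : ℕ} (ρ : Representation ℂ G (Fin n → ℂ)) (Q : Subgroup G) :
    mu Q ρ.character = (Module.finrank ℂ (Representation.invariants (ρ.comp Q.subtype)) : ℂ) := by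
  classical
  have := Fintype.ofFinite Q
  rw [← finrank_inv (ρ.comp Q.subtype), mu, finsum_eq_sum_of_fintype, Nat.card_eq_fintype_card]
  rfl

/-- **monotonicity** -/
theorem mu_mono {G : Type u} [Group G] [Finite G] (χ : IrrCharacter G) {B P : Subgroup G} (hBP : B ≤ P)
    (h : mu P (χ : G → ℂ) ≠ 0) : mu B (χ : G → ℂ) ≠ 0 := by
  obtain ⟨χ, n, ρ, hρ, rfl⟩ := χ
  intro h0
  apply h
  change mu P ρ.character = 0
  change mu B ρ.character = 0 at h0
  rw [mu_char] at h0 ⊢
  have h1 : Module.finrank ℂ (Representation.invariants (ρ.comp B.subtype)) = 0 := by exact_mod_cast h0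
  have h2 : Representation.invariants (ρ.comp P.subtype) ≤ Representation.invariants (ρ.comp B.subtype) := by
    intro v hv g
    exact hv ⟨g.1, hBP g.2⟩
  have h3 := Submodule.finrank_mono h2
  rw [h1] at h3
  exact_mod_cast Nat.le_zero.1 h3

/-- the degree -/
theorem mu_bot {G : Type u} [Group G] [Finite G] (χ : IrrCharacter G) {P : Subgroup G} (hP : P = ⊥) :
    mu P (χ : G → ℂ) = charDegree (χ : G → ℂ) := by
  subst hP
  have h1 : ((charDegree (χ : G → ℂ) : ℕ) : ℂ) = (χ : G → ℂ) 1 := by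
    obtain ⟨n, hn, h⟩ := isIrr_apply_one χ.2
    have : charDegree (χ : G → ℂ) = n := by
      unfold charDegree
      rw [h]
      simp
    rw [this, h]
  rw [h1, mu, finsum_eq_single _ (1 : (⊥ : Subgroup G)) (fun x hx => absurd (Subsingleton.elim x 1) hx)]
  simp

end Cfsg.Agent.H439.CC
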