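import Cfsg.Agent.H439.CC.Mult
import Cfsg.Agent.H319.CC.T3
import Cfsg.Agent.H139.Hecke.OfRgd

/-!
# S4884, classical groups in cross characteristic: the assembly (helper439)
-/

set_option autoImplicit false
set_option linter.unusedSectionVars false

namespace Cfsg.Agent.H439.CC

open Cfsg CoxeterSystem Cfsg.Agent.ChevalleyStructure.CoxeterGeom Cfsg.Agent.Tits.Roots Cfsg.Agent.Tits.Core
  Cfsg.Agent.Tits.Exchange Cfsg.Agent.Nodes.Reps Cfsg.Agent.Nodes.BNOf Cfsg.Agent.Nodes.StabComb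
  Cfsg.Agent.Nodes.LeviDec Cfsg.Agent.H706.PB Cfsg.Agent.Characters.Core

universe u

/-! ### The abstract assembly -/

section Abs

/-- lifting (helper747) -/
def LiftS : Prop :=
  ∀ (q : ℕ) [Fact q.Prime] (Gh S : Type u) [Group Gh] [Finite Gh] [Group S] (φ : Gh →* S), Function.Surjective φ →
    φ.ker ≤ Subgroup.center Gh → ∀ (Q₀ : Subgroup Gh), IsPGroup q Q₀ → ∀ x : S, (∀ y ∈ Q₀, x * φ y = φ y * x) →
    ¬ q ∣ orderOf x → ∃ xh : Gh, φ xh = x ∧ ∀ y ∈ Q₀, xh * y = y * xh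

variable {q : ℕ} [hq : Fact q.Prime] {S Gh : Type u} [Group S] [Finite S] [Group Gh] [Finite Gh] {κ : Type} [Fintype κ]
  {N : ℕ} {P : Finset ℕ → κ → Subgroup S} {F V : Type*} [Field F] [AddCommGroup V] [Module F V] [Finite V]
  {Adm : Submodule F V → Prop} {act : Gh →* (V ≃ₗ[F] V)} {φ : Gh →* S}

/-- the sum over the flags -/
theorem sum_pf (hF : Flags Adm act φ N P) (hco : ∀ K ∈ (Finset.Icc 1 N).powerset, coL (dig N) K ≠ 0 → N ∈ K) (g : Gh) :
    ∑ K ∈ (Finset.Icc 1 N).powerset, ∑ j : κ, coL (dig N) K * (pf (P K j) (φ g) : ℤ) =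
      ∑ K ∈ (Finset.Icc 1 N).powerset, coL (dig N) K * (fl (rkS Adm {act g}) (botS hF.bot {act g}) K : ℤ) := by
  refine Finset.sum_congr rfl fun K hK => ?_
  by_cases h0 : coL (dig N) K = 0
  · simp [h0]
  · rw [← Finset.mul_sum, ← hF.fix g K (Finset.mem_powerset.1 hK) (hco K hK h0)]
    push_cast
    rfl

theorem asm (hLift : LiftS.{u}) (hsum : ∑ K ∈ (Finset.Icc 1 N).powerset, coL (dig N) K = 1)
    (hco : ∀ K ∈ (Finset.Icc 1 N).powerset, coL (dig N) K ≠ 0 → N ∈ K)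
    (hq2 : q ≠ 2) (hκ : ¬ q ∣ Fintype.card κ)
    (hodd : ∀ χ : IrrCharacter S, (∑ K ∈ (Finset.Icc 1 N).powerset, ∑ j : κ, (coL (dig N) K : ℂ) * mu (P K j) χ) ≠ 0 →
      ¬ 2 ∣ charDegree (χ : S → ℂ) ∧ ∀ g : S, ((χ : S → ℂ) g).im = 0)
    (hF : Flags Adm act φ N P) (hQ : QElt Adm act q N)
    (hmod : ∀ (Q₀ : Subgroup Gh), IsPGroup q Q₀ → ∀ g : Gh, (∀ y ∈ Q₀, g * y = y * g) → ∀ K,
      fl (rkS Adm {act g}) (botS hF.bot {act g}) K ≡
        fl (rkS Adm (act '' (Q₀ : Set Gh) ∪ {act g})) (botS hF.bot (act '' (Q₀ : Set Gh) ∪ {act g})) K [MOD q])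
    (hTT : ∀ (Q₀ : Subgroup Gh), (∀ x ∈ Q₀, ∀ y ∈ Q₀, x * y = y * x) → ∀ g : Gh, (∀ y ∈ Q₀, g * y = y * g) →
      ¬ PF Adm (act '' (Q₀ : Set Gh)) (dig N) ⊥ →
      TT (rkS Adm (act '' (Q₀ : Set Gh) ∪ {act g})) (dig N) (botS hF.bot (act '' (Q₀ : Set Gh) ∪ {act g})) = 0)
    (hdig : (dig N).sum = N) : RowReal q S := by
  classical
  obtain ⟨Q₀, hQ₀, hcomm, hPF⟩ := hQ
  -- a Sylow `q`-subgroup containing the image of `Q₀`
  obtain ⟨Q, hQle⟩ := (hQ₀.map φ).exists_le_sylow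
  -- the index type
  let ι := {K // K ∈ (Finset.Icc 1 N).powerset} × κ
  have hs : ∀ {R : Type} [AddCommMonoid R] (f : Finset ℕ → κ → R),
      ∑ i : {K // K ∈ (Finset.Icc 1 N).powerset} × κ, f i.1.1 i.2 = ∑ K ∈ (Finset.Icc 1 N).powerset, ∑ j : κ, f K j := by
    intro R _ f
    rw [Fintype.sum_prod_type]
    exact Finset.sum_coe_sort (Finset.Icc 1 N).powerset (fun K => ∑ j : κ, f K j)
  refine H319.CC.t3 q S ι (fun i => coL (dig N) i.1.1) (fun i => P i.1.1 i.2) Q hq2 ?_ ?_ ?_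
  · rw [show (∑ i : ι, coL (dig N) i.1.1) = Fintype.card κ by
      rw [hs (fun K _ => coL (dig N) K)]
      simp only [Finset.sum_const, Finset.card_univ, nsmul_eq_mul]
      rw [← Finset.mul_sum, hsum, mul_one]]
    intro h
    exact hκ (by exact_mod_cast h)
  · intro χ hχ
    apply hodd χ
    rwa [← hs (fun K j => (coL (dig N) K : ℂ) * mu (P K j) χ)]
  · intro x hx hxq
    obtain ⟨g, rfl, hg⟩ := hLift q Gh S φ hF.surj hF.ker Q₀ hQ₀ x
      (fun y hy => hx _ (hQle (Subgroup.mem_map_of_mem φ hy))) hxq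
    rw [hs (fun K j => coL (dig N) K * (pf (P K j) (φ g) : ℤ)), sum_pf hF hco g]
    have h1 := hTT Q₀ hcomm g hg hPF
    unfold TT at h1
    rw [hdig] at h1
    rw [← Int.modEq_zero_iff_dvd, ← h1]
    refine Int.ModEq.sum fun K _ => ?_
    refine Int.ModEq.mul_left _ ?_
    exact (Int.natCast_modEq_iff).2 (hmod Q₀ hQ₀ g hg K)

end Abs

/-! ### The group side -/

section Frame

variable {I W : Type*} {Y : Type u} [Fintype I] [DecidableEq I] [Group W] [Finite W] [Group Y] [Finite Y]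
  {M : CoxeterMatrix I} {cs : CoxeterSystem M W} {A : I → I → ℤ} {h : IsCartan M A} {p : ℕ} {T : Subgroup Y} {n : I → Y}
  {X : (I → ℤ) → Subgroup Y}

theorem WJ_empty : WJ cs (∅ : Set I) = ⊥ := by
  rw [WJ, Set.image_empty, Subgroup.closure_empty]

/-- constituents of odd degree -/
theorem odd_real (R : RGD cs h p T n X) (hgen : RGD.B cs h T X ⊔ NN cs R.nsys = ⊤) (hamb : ∀ w : W, IsConj w w⁻¹)
    (hcmp : Cmp cs h T X) (hpar : Par2 cs h T X) {κ : Type} [Fintype κ] (N : ℕ) (J : Finset ℕ → κ → Set I)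
    (hW : WSide cs N J) (hB : ∀ J : Set I, RGD.B cs h T X ≤ PJ cs h T X J)
    (hB0 : PJ cs h T X ∅ = RGD.B cs h T X) (χ : IrrCharacter Y)
    (h0 : (∑ K ∈ (Finset.Icc 1 N).powerset, ∑ j : κ, (coL (dig N) K : ℂ) * mu (PJ cs h T X (J K j)) χ) ≠ 0) :
    ¬ 2 ∣ charDegree (χ : Y → ℂ) ∧ ∀ g : Y, ((χ : Y → ℂ) g).im = 0 := by
  classical
  have hμ : mu (RGD.B cs h T X) (χ : Y → ℂ) ≠ 0 := by
    by_contra h1
    apply h0
    refine Finset.sum_eq_zero fun K _ => Finset.sum_eq_zero fun j _ => ?_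
    have h2 : mu (PJ cs h T X (J K j)) (χ : Y → ℂ) = 0 := by
      by_contra h3
      exact mu_mono χ (hB _) h3 h1
    rw [h2, mul_zero]
  constructor
  · obtain ⟨φ, hφ⟩ := hcmp χ hμ
    obtain ⟨m, hm, h2⟩ := hpar χ hμ
    have h3 : ¬ 2 ∣ charDegree (φ : W → ℂ) := by
      apply hW φ
      simpa only [hφ] using h0
    have h4 : (m : ℂ) = charDegree (φ : W → ℂ) := by
      rw [← hm, ← hB0, hφ, mu_bot φ WJ_empty]
    have h5 : m = charDegree (φ : W → ℂ) := by exact_mod_cast h4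
    rw [h2, h5]
    exact h3
  · intro g
    have := Fintype.ofFinite (RGD.B cs h T X)
    refine H139.Hecke.real_of_rgd R hgen hamb χ ?_ g
    intro h1
    apply hμ
    rw [mu, finsum_eq_sum_of_fintype, h1, mul_zero]

end Frame

end Cfsg.Agent.H439.CC
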