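import Cfsg.Agent.H439.CC.Asm

/-!
# Lifting of commuting elements of coprime order (helper439)
-/

set_option autoImplicit false

namespace Cfsg.Agent.H439.CC

universe u

theorem lift : LiftS.{u} := by
  intro q hq Gh S _ _ _ φ hsurj hker Q₀ hQ₀ x hx hxq
  classical
  obtain ⟨g, rfl⟩ := hsurj x
  -- the order of `g` : `q ^ a * m`, `m` prime to `q`
  obtain ⟨a, m, hm, ho⟩ := Nat.exists_eq_pow_mul_and_not_dvd (orderOf_pos g).ne' q hq.out.ne_one
  -- a power of `g` of order prime to `q` with the same image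
  have hcop : Nat.Coprime (orderOf (φ g)) (q ^ a) :=
    Nat.Coprime.pow_right a ((Nat.Prime.coprime_iff_not_dvd hq.out).2 hxq).symm
  obtain ⟨k, hk1, hk2⟩ := Nat.chineseRemainder hcop 1 0
  have hφ : φ (g ^ k) = φ g := by
    rw [map_pow]
    conv_rhs => rw [← pow_one (φ g)]
    exact (pow_eq_pow_iff_modEq).2 hk1
  have hord : (g ^ k) ^ m = 1 := by
    obtain ⟨c, hc⟩ := (Nat.modEq_zero_iff_dvd).1 hk2
    rw [← pow_mul, hc, show q ^ a * c * m = q ^ a * m * c by ring, ← ho, pow_mul, pow_orderOf_eq_one, one_pow]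
  refine ⟨g ^ k, hφ, fun y hy => ?_⟩
  set t := g ^ k with ht
  -- the commutator is central
  have hz : t * y * t⁻¹ * y⁻¹ ∈ Subgroup.center Gh := by
    apply hker
    rw [MonoidHom.mem_ker, map_mul, map_mul, map_mul, map_inv, map_inv, hφ, hx y hy]
    group
  set z := t * y * t⁻¹ * y⁻¹ with hzdef
  have hzc : ∀ w, w * z = z * w := Subgroup.mem_center_iff.1 hz
  have hty : t * y * t⁻¹ = z * y := by rw [hzdef]; group
  -- `z ^ m = 1`
  have h1 : ∀ j : ℕ, t ^ j * y * (t ^ j)⁻¹ = z ^ j * y := by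
    intro j
    induction j with
    | zero => simp
    | succ j ih =>
      have e1 : t ^ (j + 1) * y * (t ^ (j + 1))⁻¹ = t * (t ^ j * y * (t ^ j)⁻¹) * t⁻¹ := by
        rw [pow_succ' t j]
        group
      have e2 : t * z ^ j = z ^ j * t := (Commute.pow_right (show Commute t z from hzc t) j).eq
      rw [e1, ih, show t * (z ^ j * y) * t⁻¹ = t * z ^ j * y * t⁻¹ by group, e2,
        show z ^ j * t * y * t⁻¹ = z ^ j * (t * y * t⁻¹) by group, hty, pow_succ]
      group
  have h2 : z ^ m = 1 := by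
    have e := h1 m
    rw [hord] at e
    have e3 : y = z ^ m * y := by simpa using e
    exact (mul_eq_right.1 e3.symm)
  -- `z` has `q`-power order
  obtain ⟨b, hb⟩ := hQ₀ ⟨y, hy⟩
  have hyb : y ^ q ^ b = 1 := congrArg Subtype.val hb
  have h3 : z ^ q ^ b = 1 := by
    have e4 : (t * y * t⁻¹) ^ q ^ b = 1 := by
      rw [conj_pow, hyb]
      group
    rw [hty, (show Commute z y from (hzc y).symm).mul_pow, hyb, mul_one] at e4
    exact e4
  have h4 : z = 1 := by
    have hc2 : Nat.Coprime m (q ^ b) := Nat.Coprime.pow_right b ((Nat.Prime.coprime_iff_not_dvd hq.out).2 hm).symm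
    have := Nat.dvd_gcd (orderOf_dvd_of_pow_eq_one h2) (orderOf_dvd_of_pow_eq_one h3)
    rw [hc2.gcd_eq_one, Nat.dvd_one, orderOf_eq_one_iff] at this
    exact this
  rw [h4, one_mul] at hty
  calc t * y = t * y * t⁻¹ * t := by group
    _ = y * t := by rw [hty]

end Cfsg.Agent.H439.CC
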